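import Cfsg.Agent.Lib.FA.Frame

/-!
# The action on `E / Z` of elements of `T` (after `Lib.CharDeg.CopB`)
-/

set_option autoImplicit false

namespace Cfsg.Lib.FA

open Subgroup Cfsg.Lib.BG Cfsg.Lib.Transfer Cfsg.Lib.CharDeg.Cop

variable {X : Type*} [Group X] {p : ℕ} {G R T E Z N R' T' E' Z' : Subgroup X}

namespace Fr

variable (h : Fr p G R T E Z)
include h

theorem mem_ax {x b : X} : x ∈ E ⊓ cm Z b ↔ x ∈ E ∧ x * b * x⁻¹ * b⁻¹ ∈ Z :=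
  ⟨fun hx => ⟨hx.1, hx.2.2⟩, fun hx => ⟨hx.1, h.EZ hx.1, hx.2⟩⟩

theorem cE {x b : X} (hx : x ∈ E) (hb : b ∈ 𝐍(E)) : x * b * x⁻¹ * b⁻¹ ∈ E := by
  simpa [mul_assoc] using mul_mem hx (conj_mem_of_norm hb (inv_mem hx))

theorem comm_mul {x e c : X} (hx : x ∈ E) (he : e ∈ E) (hc : c ∈ 𝐍(E)) :
    ∃ z ∈ Z, x * (e * c) * x⁻¹ * (e * c)⁻¹ = z * (x * c * x⁻¹ * c⁻¹) :=
  ⟨_, mul_mem (h.cZ hx he) (h.cZ he (h.cE hx hc)), by group⟩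

theorem ax_mul {e c : X} (he : e ∈ E) (hc : c ∈ 𝐍(E)) : E ⊓ cm Z (e * c) = E ⊓ cm Z c := by
  ext x
  rw [h.mem_ax, h.mem_ax]
  refine and_congr_right fun hx => ?_
  obtain ⟨z, hz, e⟩ := h.comm_mul hx he hc
  rw [e, mul_mem_cancel_left hz]

theorem Z_le_ax {b : X} (hb : b ∈ 𝐍(E)) : Z ≤ E ⊓ cm Z b := fun z hz => h.mem_ax.2 ⟨h.ZE hz, by
  simpa [mul_assoc] using mul_mem hz (conj_mem_of_norm (h.nZ hb) (inv_mem hz))⟩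

theorem comm_mem_ax {x u : X} (hx : x ∈ E) (hu : u ∈ 𝐍(E)) (h2 : x * (u * u) * x⁻¹ * (u * u)⁻¹ ∈ Z) :
    x * u * x⁻¹ * u⁻¹ ∈ E ⊓ cm Z u := by
  have hy := h.cE hx hu
  refine h.mem_ax.2 ⟨hy, ?_⟩
  set y := x * u * x⁻¹ * u⁻¹ with e
  have h3 := mul_mem (conj_mem_of_norm (h.EZ hy) (inv_mem h2)) (h.sq y hy)
  convert h3 using 1
  rw [e]; group

theorem conj_comm {x c ρ : X} (hc : c ∈ 𝐂(R)) (hρ : ρ ∈ R) :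
    ρ * x * ρ⁻¹ * c * (ρ * x * ρ⁻¹)⁻¹ * c⁻¹ = ρ * (x * c * x⁻¹ * c⁻¹) * ρ⁻¹ := by
  have e := mem_cent.1 hc ρ hρ
  calc _ = ρ * x * (ρ⁻¹ * (c * ρ)) * x⁻¹ * (c * ρ)⁻¹ := by group
    _ = _ := by rw [← e]; group

/-- The commutator identity behind the fixed-point-free action on `E / Z`. -/
theorem pair {e ρ : X} (he : e ∈ E) (hρ : ρ ∈ R) :
    e * (ρ * e * ρ⁻¹ * (ρ⁻¹ * e * ρ)) = ρ * e * ρ⁻¹ * (ρ⁻¹ * e * ρ) * e ∧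
    (ρ * e * ρ⁻¹ * (ρ⁻¹ * e * ρ) * (ρ * e * ρ⁻¹ * (ρ⁻¹ * e * ρ)) = 1 →
      ρ * e * ρ⁻¹ * (ρ⁻¹ * e * ρ) = ρ⁻¹ * e * ρ * (ρ * e * ρ⁻¹)) := by
  have ha := conj_mem_of_norm (h.RE hρ) he
  have ha' := conj_mem_of_norm' (h.RE hρ) he
  have s1 : ρ * e * ρ⁻¹ * (ρ * e * ρ⁻¹) = e * e := by
    calc _ = ρ * (e * e) * ρ⁻¹ := by group
      _ = e * e := by rw [← h.zr (h.sq e he) hρ]; group
  have s2 : ρ⁻¹ * e * ρ * (ρ⁻¹ * e * ρ) = e * e := by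
    calc _ = ρ⁻¹ * (e * e * ρ) := by group
      _ = e * e := by rw [h.zr (h.sq e he) hρ]; group
  have s3 : e * (ρ⁻¹ * e * ρ) * e⁻¹ * (ρ⁻¹ * e * ρ)⁻¹ = e * (ρ * e * ρ⁻¹) * e⁻¹ * (ρ * e * ρ⁻¹)⁻¹ := by
    rw [← h.zinv (h.cZ he ha)]
    calc _ = ρ⁻¹ * ((e * (ρ * e * ρ⁻¹) * e⁻¹ * (ρ * e * ρ⁻¹)⁻¹)⁻¹ * ρ) := by group
      _ = _ := by rw [h.zr (inv_mem (h.cZ he ha)) hρ]; group
  generalize ρ * e * ρ⁻¹ = a at *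
  generalize ρ⁻¹ * e * ρ = a' at *
  obtain ⟨z, hz, e1⟩ : ∃ z ∈ Z, e * a * e⁻¹ * a⁻¹ = z := ⟨_, h.cZ he ha, rfl⟩
  rw [e1] at s3
  constructor
  · calc e * (a * a') = e * a * e⁻¹ * a⁻¹ * a * (e * a' * e⁻¹ * a'⁻¹) * a' * e := by group
      _ = z * a * z * a' * e := by rw [e1, s3]
      _ = a * (z * z) * a' * e := by rw [h.zc hz ha]; group
      _ = a * a' * e := by rw [h.zsq z hz]; group
  · intro h0
    obtain ⟨w, hw, e2⟩ : ∃ w ∈ Z, a' * a * a'⁻¹ * a⁻¹ = w := ⟨_, h.cZ ha' ha, rfl⟩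
    have : w = 1 := by
      calc w = w * (a * a * (a' * a')) := by rw [s1, s2, h.zsq _ (h.sq e he), mul_one]
        _ = (w * a) * a * (a' * a') := by group
        _ = a * (a' * a * a'⁻¹ * a⁻¹) * a * (a' * a') := by rw [h.zc hw ha, e2]
        _ = 1 := by rw [← h0]; group
    exact (eq_of_comm (e2.trans this)).symm

variable [Finite X]

theorem ax_norm {b : X} (hb : b ∈ T) : R ≤ 𝐍(E ⊓ cm Z b) := by
  obtain ⟨e, he, c, hc', hc, rfl⟩ := h.dec hb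
  rw [h.ax_mul he (h.TE hc')]
  refine le_norm_iff.2 fun ρ hρ x hx => h.mem_ax.2 ⟨conj_mem_of_norm (h.RE hρ) hx.1, ?_⟩
  rw [h.conj_comm hc hρ]
  exact conj_mem_of_norm (h.nZ (h.RE hρ)) hx.2.2

theorem ax_gt {b : X} (hb : b ∈ 𝐍(E)) (h2 : IsPGroup 2 (zpowers b)) : ¬ E ⊓ cm Z b ≤ Z := by
  have h1 : E ⊔ zpowers b ≤ 𝐍(E) := sup_le_norm_left (zpowers_le.2 hb)
  have h3 := nil_meet_center (nil_quo (pgroup_nil (pgroup_sup h.two h2 (zpowers_le.2 hb))) Z)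
    (quo_mono le_sup_left Z) (quo_norm h1 Z) fun e => h.not_le ((quo_eq_bot_iff h.EZ).1 e)
  have h4 : copre Z (quo E Z ⊓ 𝐂(quo (E ⊔ zpowers b) Z)) ≤ E := copre_le_of_le_quo ⟨h.ZE, h.EZ⟩ inf_le_left
  have h5 := (quo_le_cent_iff (h4.trans h.EZ) (h1.trans h.nZ)).1 (by rw [quo_copre]; exact inf_le_right)
  exact fun e => (lt_copre h3).not_ge (le_trans (fun x hx => h.mem_ax.2 ⟨h4 hx,
    h5 (comm_mem_comm hx (mem_sup_right (mem_zpowers b)))⟩) e)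

theorem inner {u : X} (hu : u ∈ T) (hi : E ≤ cm Z u) : ∃ e ∈ E, ∃ c ∈ 𝐂(R), c ∈ 𝐂(E) ∧ u = e * c := by
  obtain ⟨e, he, c, hc', hc, rfl⟩ := h.dec hu
  refine ⟨e, he, c, hc, le_cent1_iff.1 ?_, rfl⟩
  rw [← h.comm]
  exact h.hom le_rfl hc fun x hx => ((h.ax_mul he (h.TE hc')).le ⟨hx, hi hx⟩).2.2

theorem mem_ax_of_sq {e c : X} (he : e ∈ E) (hc : c ∈ 𝐂(R)) (hc' : c ∈ 𝐍(E)) (h2 : e * c * (e * c) = 1) :
    e ∈ E ⊓ cm Z (e * c) := by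
  rw [h.ax_mul he hc']
  have hy := conj_mem_of_norm hc' he
  have e1 : e * (c * e * c⁻¹) = (c * c)⁻¹ := by
    calc _ = e * c * (e * c) * (c * c)⁻¹ := by group
      _ = _ := by rw [h2, one_mul]
  have h3 := h.mem_Z (mul_mem he hy) (e1 ▸ inv_mem (mul_mem hc hc))
  refine h.mem_ax.2 ⟨he, ?_⟩
  convert mul_mem h3 (inv_mem (h.sq _ hy)) using 1
  group

theorem dec2 {b : X} (hb : b ∈ T) (h2 : b * b = 1) :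
    ∃ e ∈ ⁅E ⊓ cm Z b, R⁆, ∃ c ∈ 𝐂(R), b = e * c ∧ ⁅E ⊓ cm Z b, R⁆ ≤ 𝐂[c] := by
  have hn := h.ax_norm hb
  obtain ⟨e, he, c, hc', hc, rfl⟩ := h.dec hb
  replace hc' := h.TE hc'
  have h3 := comm_le_left hn
  obtain ⟨e₀, h4, z, hz, rfl⟩ := (mem_sup_left_norm (norm_of_cent (h.cen.trans (cent_anti
    (h3.trans inf_le_left))))).1 (h.le_sup inf_le_left hn (h.mem_ax_of_sq he hc hc' h2))
  have h5 := mul_mem (h.ZR hz) hc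
  refine ⟨e₀, h4, z * c, h5, mul_assoc _ _ _, h.hom inf_le_left h5 fun x hx => ?_⟩
  rw [h.ax_mul he hc', ← h.ax_mul (h.ZE hz) hc'] at hx
  exact hx.2.2

theorem exists_ce {u : X} (hu : u ∈ T) : ∃ W : Subgroup X, Z ≤ W ∧ W ≤ E ∧ R ≤ 𝐍(W) ∧
    (∀ x ∈ E, x * u * x⁻¹ * u⁻¹ ∈ W) ∧ ∀ w ∈ W, ∃ x ∈ E, x * u * x⁻¹ * u⁻¹ * w ∈ Z := by
  have hu' := h.TE hu
  let W : Subgroup X :=
    { carrier := {w | w ∈ E ∧ ∃ x ∈ E, x * u * x⁻¹ * u⁻¹ * w ∈ Z}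
      one_mem' := ⟨one_mem _, 1, one_mem _, by simp⟩
      mul_mem' := fun {w w'} ⟨h1, x, hx, h2⟩ ⟨h3, x', hx', h4⟩ => ⟨mul_mem h1 h3, x * x', mul_mem hx hx', by
        have h5 := h.cE hx' hu'
        convert mul_mem (mul_mem (h.cZ hx h5) (conj_mem_of_norm (h.EZ h5) h2)) h4 using 1
        group⟩
      inv_mem' := fun {w} ⟨h1, x, hx, h2⟩ => ⟨inv_mem h1, x, hx, by
        convert mul_mem h2 (inv_mem (h.sq w h1)) using 1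
        group⟩ }
  refine ⟨W, fun z hz => ⟨h.ZE hz, 1, one_mem _, by simpa using hz⟩, fun _ hw => hw.1,
    le_norm_iff.2 fun ρ hρ w ⟨h1, x, hx, h2⟩ => ⟨conj_mem_of_norm (h.RE hρ) h1, _, conj_mem_of_norm (h.RE hρ) hx, ?_⟩,
    fun x hx => ⟨h.cE hx hu', x, hx, h.sq _ (h.cE hx hu')⟩, fun _ hw => hw.2⟩
  obtain ⟨e, he, c, hc', hc, rfl⟩ := h.dec hu
  replace hc' := h.TE hc'
  obtain ⟨z, hz, e1⟩ := h.comm_mul hx he hc'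
  obtain ⟨z', hz', e2⟩ := h.comm_mul (conj_mem_of_norm (h.RE hρ) hx) he hc'
  rw [e1, mul_assoc, mul_mem_cancel_left hz] at h2
  rw [e2, mul_assoc, mul_mem_cancel_left hz', h.conj_comm hc hρ]
  convert conj_mem_of_norm (h.nZ (h.RE hρ)) h2 using 1
  group

theorem ce_le_ax {u : X} (hu : u ∈ 𝐍(E)) (h2 : E ≤ cm Z (u * u)) {W : Subgroup X}
    (hW : ∀ w ∈ W, ∃ x ∈ E, x * u * x⁻¹ * u⁻¹ * w ∈ Z) : W ≤ E ⊓ cm Z u := fun w hw => by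
  obtain ⟨x, hx, h3⟩ := hW w hw
  exact (mul_mem_cancel_left (h.comm_mem_ax hx hu (h2 hx).2)).1 (h.Z_le_ax hu h3)

/-- An element centralising `Z` whose square is inner is inner or has equal axis and centre. -/
theorem axis {u : X} (hu : u ∈ T) (hZ : u ∈ 𝐂(Z)) (h2 : E ≤ cm Z (u * u)) :
    E ≤ cm Z u ∨ ∃ N, Glob R E N ∧ E ⊓ cm Z u ≤ N ⊔ Z ∧ (∀ x ∈ E, x * u * x⁻¹ * u⁻¹ ∈ N ⊔ Z) ∧
      ∀ w ∈ N ⊔ Z, ∃ x ∈ E, x * u * x⁻¹ * u⁻¹ * w ∈ Z := by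
  obtain ⟨W, h3, h4, h5, h6, h7⟩ := h.exists_ce hu
  have hu' := h.TE hu
  refine or_iff_not_imp_left.2 fun hn => ?_
  have h8 : E ⊓ cm Z u ≤ 𝐂(W) := fun y hy => mem_cent.2 fun w hw => by
    obtain ⟨x, hx, h9⟩ := h7 w hw
    obtain ⟨z, hz, rfl⟩ : ∃ z ∈ Z, w = (x * u * x⁻¹ * u⁻¹)⁻¹ * z := ⟨_, h9, by group⟩
    obtain ⟨z', hz', e1⟩ : ∃ z' ∈ Z, u * y * u⁻¹ = z' * y := ⟨_, inv_mem hy.2.2, by group⟩
    obtain ⟨v, hv, e2⟩ : ∃ v ∈ Z, x⁻¹ * y * x = v * y := ⟨_, h.cZ (inv_mem hx) hy.1, by group⟩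
    have e3 := mem_cent.1 hZ v hv
    have hx' := conj_mem_of_norm hu' hx
    have e4 : (u * x * u⁻¹)⁻¹ * y * (u * x * u⁻¹) = v * y := by
      calc _ = z'⁻¹ * (z' * (u * x * u⁻¹)⁻¹) * y * (u * x * u⁻¹) := by group
        _ = z'⁻¹ * u * (x⁻¹ * (u⁻¹ * (z' * y) * u) * x) * u⁻¹ := by rw [h.zc hz' (inv_mem hx')]; group
        _ = z'⁻¹ * (u * v) * u⁻¹ * (u * y * u⁻¹) := by rw [← e1, show u⁻¹ * (u * y * u⁻¹) * u = y by group, e2]; group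
        _ = z'⁻¹ * (v * z') * y := by rw [← e3, e1]; group
        _ = v * y := by rw [h.zc hv (h.ZE hz')]; group
    calc (x * u * x⁻¹ * u⁻¹)⁻¹ * z * y = (u * x * u⁻¹) * x⁻¹ * (z * y) := by group
      _ = (u * x * u⁻¹) * (x⁻¹ * y * x) * x⁻¹ * z := by rw [h.zc hz hy.1]; group
      _ = y * ((x * u * x⁻¹ * u⁻¹)⁻¹ * z) := by rw [e2, ← e4]; group
  have h9 := comm_le_left h5
  have h10 := h.glob_of h4 h5 (cent_mono h8 (h9.trans (h.ce_le_ax hu' h2 h7)) h9) fun e =>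
    hn fun x hx => ⟨h.EZ hx, e (h6 x hx)⟩
  exact ⟨_, h10, (le_inf inf_le_left (h8.trans (cent_anti h9))).trans (h.glob _ h10),
    fun x hx => h.le_sup h4 h5 (h6 x hx), fun w hw => h7 w (sup_le h9 h3 hw)⟩

theorem odd : Odd (Nat.card R) :=
  h.prime.odd_of_ne_two fun e => (Nat.Prime.coprime_iff_not_dvd h.prime).1 (h.cop' h.le)
    (e ▸ pgroup_dvd_card h.two h.ne)

theorem sqrt {ρ : X} (hρ : ρ ∈ R) : ∃ σ ∈ R, σ * σ = ρ := by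
  obtain ⟨k, hk⟩ := h.odd
  refine ⟨ρ ^ (k + 1), pow_mem hρ _, ?_⟩
  have : ρ ^ Nat.card R = 1 := congrArg Subtype.val (pow_card_eq_one' (x := (⟨ρ, hρ⟩ : R)))
  rw [← pow_add, show k + 1 + (k + 1) = 2 * k + 1 + 1 by ring, ← hk, pow_succ, this, one_mul]

theorem glob_of_sq {e : X} (he : e ∈ E) (hn : e ∉ Z)
    (h2 : ∀ ρ ∈ R, ρ * e * ρ⁻¹ * (ρ⁻¹ * e * ρ) * (ρ * e * ρ⁻¹ * (ρ⁻¹ * e * ρ)) = 1) :
    ∃ N, Glob R E N ∧ e ∈ N ⊔ Z ∧ ∀ K, e ∈ K → R ≤ 𝐍(K) → N ≤ K := by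
  let K := closure {y | ∃ ρ ∈ R, y = ρ * e * ρ⁻¹}
  have h3 : ∀ L, e ∈ L → R ≤ 𝐍(L) → K ≤ L := fun L h1 h3 => (closure_le _).2 (by
    rintro _ ⟨ρ, hρ, rfl⟩; exact conj_mem_of_norm (h3 hρ) h1)
  have h4 : e ∈ K := subset_closure ⟨1, one_mem _, by simp⟩
  have h5 : R ≤ 𝐍(K) := fun ρ hρ => mem_normalizer_of_conj_le (conj_le_iff_le_inv_conj.2 ((closure_le _).2 (by
    rintro _ ⟨σ, hσ, rfl⟩
    exact mem_conj.2 (subset_closure ⟨ρ * σ, mul_mem hρ hσ, by group⟩))))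
  have h6 : K ≤ 𝐂(K) := (closure_le _).2 (by
    rintro _ ⟨ρ, hρ, rfl⟩
    refine le_cent1_iff.1 ((closure_le _).2 ?_)
    rintro _ ⟨σ, hσ, rfl⟩
    obtain ⟨τ, hτ, e1⟩ := h.sqrt (mul_mem (inv_mem hρ) hσ)
    obtain rfl : σ = ρ * τ * τ := by rw [mul_assoc, e1]; group
    refine mem_cent1.2 ?_
    calc _ = ρ * τ * (τ * e * τ⁻¹ * (τ⁻¹ * e * τ)) * (ρ * τ)⁻¹ := by group
      _ = _ := by rw [(h.pair he hτ).2 (h2 τ hτ)]; group)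
  have h7 := h3 E he h.RE
  have h8 := comm_le_left h5
  exact ⟨_, h.glob_of h7 h5 (cent_mono h6 h8 h8) fun e => hn (e h4), h.le_sup h7 h5 h4,
    fun L h1 h9 => h8.trans (h3 L h1 h9)⟩

end Fr

end Cfsg.Lib.FA
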